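import Groth.Agent.AlgSp.K607.FpQuot
import Groth.Agent.AlgSp.K634.MonoTfae
import Groth.Agent.S10557
import Groth.Agent.S10259

/-!
# Factorisation of a morphism with flat self-fibre-product

`exists_fact`: `m : E ⟶ W` locally of finite type, `W` locally Noetherian, `E ×_W E ⟶ E` flat: then `m = p ≫ i` with
`p : E ⟶ Z` flat, surjective and locally of finite presentation, and `i : Z ⟶ W` a monomorphism locally of finite type.
-/

set_option autoImplicit false
universe u

open CategoryTheory CategoryTheory.Limits AlgebraicGeometry Opposite AlgSp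

namespace K220.FlatFact

/-- The equivalence relation `E ×_W E` over `W`. -/
theorem isEqvRel {E W : Scheme.{u}} (m : E ⟶ W) :
    IsEqvRel (S := W) (R := Over.mk (pullback.fst m m ≫ m)) (U := Over.mk m)
      (Over.homMk (pullback.fst m m) rfl) (Over.homMk (pullback.snd m m) pullback.condition.symm) where
  injective T r r' h1 h2 := by
    ext1
    apply pullback.hom_ext
    · exact congrArg (fun φ => φ.left) h2
    · exact congrArg (fun φ => φ.left) h1
  equivalence T := by
    have key : ∀ a b : T ⟶ Over.mk m, ∃ r : T ⟶ Over.mk (pullback.fst m m ≫ m),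
        r ≫ (Over.homMk (pullback.snd m m) pullback.condition.symm : Over.mk (pullback.fst m m ≫ m) ⟶ Over.mk m) = a ∧
        r ≫ (Over.homMk (pullback.fst m m) rfl : Over.mk (pullback.fst m m ≫ m) ⟶ Over.mk m) = b := by
      intro a b
      have w : b.left ≫ m = a.left ≫ m := (Over.w b).trans (Over.w a).symm
      refine ⟨Over.homMk (pullback.lift b.left a.left w) ?_, ?_, ?_⟩
      · have h : pullback.lift b.left a.left w ≫ pullback.fst m m ≫ m = b.left ≫ m := by
          rw [← Category.assoc, pullback.lift_fst]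
        exact h.trans (Over.w b)
      · ext1
        exact pullback.lift_snd _ _ _
      · ext1
        exact pullback.lift_fst _ _ _
    exact ⟨fun a => key a a, fun {a b} _ => key b a, fun {a b c} _ _ => key a c⟩

/-- A locally surjective map `q : h_U ⟶ F` of sheaves over `W` such that any two points of `U` with values in a scheme
over `W` have the same image: `F` is a subsheaf of the final sheaf. -/
theorem mono_of_rel {W : Scheme.{u}} {F G : Sp W} {U : Over W} (q : (yon W).obj U ⟶ F)
    [Sheaf.IsLocallySurjective q] (f : F ⟶ G)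
    (h : ∀ (T : Over W) (a b : T ⟶ U), (yon W).map a ≫ q = (yon W).map b ≫ q) : Mono f := by
  rw [K594.Basic.mono_iff]
  intro T x y _
  obtain ⟨T₁, g₁, ⟨a⟩, hg₁, ha⟩ := (K594.Cover.isLocallySurjective_iff q).1 inferInstance T x
  obtain ⟨T₂, g₂, ⟨b⟩, hg₂, hb⟩ := (K594.Cover.isLocallySurjective_iff q).1 inferInstance T y
  obtain ⟨T₃, u, v, sq, hu⟩ := hg₂.exists_baseChange g₁
  have hc : K594.Cover.Cov (u ≫ g₁) := hg₁.comp hu
  refine hc.ext F ?_
  have h1 := h T₃ (u ≫ a) (v ≫ b)
  have h2 : q.hom.app (op T₃) ⟨u ≫ a⟩ = q.hom.app (op T₃) ⟨v ≫ b⟩ := by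
    have h3 := congrArg (fun φ => φ.hom.app (op T₃) ⟨𝟙 T₃⟩) h1
    have e : ∀ c : T₃ ⟶ U, ((yon W).map c ≫ q).hom.app (op T₃) ⟨𝟙 T₃⟩ = q.hom.app (op T₃) ⟨c⟩ := by
      intro c
      change q.hom.app (op T₃) ⟨𝟙 T₃ ≫ c⟩ = _
      rw [Category.id_comp]
    rw [← e, ← e]
    exact h3
  have h4 : ∀ {T₁ T₃ T : Over W} (u : T₃ ⟶ T₁) (g : T₁ ⟶ T) (a : T₁ ⟶ U) (x : F.obj.obj (op T)),
      q.hom.app (op T₁) ⟨a⟩ = F.obj.map g.op x → F.obj.map (u ≫ g).op x = q.hom.app (op T₃) ⟨u ≫ a⟩ := by
    intro T₁ T₃ T u g a x hx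
    rw [K594.Elem.map_comp_apply, ← hx]
    exact (K594.Elem.app_map q u ⟨a⟩).symm
  rw [h4 u g₁ a x ha, h2, ← h4 v g₂ b y hb, sq.w]

/-- **The quotient of `E` by `E ×_W E`.** -/
theorem exists_fact {E W : Scheme.{u}} [IsLocallyNoetherian W] (m : E ⟶ W) [LocallyOfFiniteType m]
    [Flat (pullback.fst m m)] :
    ∃ (Z : Scheme.{u}) (p : E ⟶ Z) (i : Z ⟶ W), p ≫ i = m ∧ Mono i ∧ LocallyOfFiniteType i ∧ Flat p ∧
      Surjective p ∧ LocallyOfFinitePresentation p := by
  let U : Over W := Over.mk m
  let R : Over W := Over.mk (pullback.fst m m ≫ m)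
  let s : R ⟶ U := Over.homMk (pullback.fst m m) rfl
  let t : R ⟶ U := Over.homMk (pullback.snd m m) pullback.condition.symm
  have hst : IsEqvRel s t := isEqvRel m
  have hE : IsLocallyNoetherian E := LocallyOfFiniteType.isLocallyNoetherian m
  have hfs : Flat s.left := inferInstanceAs (Flat (pullback.fst m m))
  have hls : LocallyOfFinitePresentation s.left := inferInstanceAs (LocallyOfFinitePresentation (pullback.fst m m))
  have hlt : LocallyOfFiniteType t.left := inferInstanceAs (LocallyOfFiniteType (pullback.snd m m))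
  let F : Sp W := QuotSh.quot Scheme.fppfPrecoverage s t
  let q : (yon W).obj U ⟶ F := K594.Quot.π s t
  have hq : Sheaf.IsLocallySurjective q := K594.Quot.isLocallySurjective_π s t
  have hpb : IsPullback ((yon W).map t) ((yon W).map s) q q := K594.Quot.isPullback_π s t hst
  obtain ⟨h1, h2, h3, h4⟩ := K607.FpQuot.of_kernelPair q hpb
  have hF : IsAlgSpace F := K607.FpQuot.isAlgSpace_quot s t hst
  let T : Over W := Over.mk (𝟙 W)
  let g : U ⟶ T := Over.homMk m
  obtain ⟨f, hf⟩ := K594.Quot.exists_desc s t ((yon W).map g) (by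
    rw [← Functor.map_comp, ← Functor.map_comp]
    congr 1
    ext1
    exact pullback.condition)
  have hmono : Mono f := mono_of_rel q f fun T' a b => by
    have w : b.left ≫ m = a.left ≫ m := (Over.w b).trans (Over.w a).symm
    let r : T' ⟶ R := Over.homMk (pullback.lift b.left a.left w) (by
      have h : pullback.lift b.left a.left w ≫ pullback.fst m m ≫ m = b.left ≫ m := by
        rw [← Category.assoc, pullback.lift_fst]
      exact h.trans (Over.w b))
    have hr1 : r ≫ t = a := by
      ext1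
      exact pullback.lift_snd _ _ _
    have hr2 : r ≫ s = b := by
      ext1
      exact pullback.lift_fst _ _ _
    rw [← hr1, ← hr2, Functor.map_comp, Functor.map_comp, Category.assoc, Category.assoc, hpb.w]
  have hT : IsAlgSpace ((yon W).obj T) := IsAlgSpace.yon_obj T
  have hlft : LocP @LocallyOfFiniteType f := by
    let U' : Space W := ⟨(yon W).obj U, IsAlgSpace.yon_obj U⟩
    let F' : Space W := ⟨F, hF⟩
    let T' : Space W := ⟨(yon W).obj T, hT⟩
    let q' : U' ⟶ F' := ObjectProperty.homMk q
    let f' : F' ⟶ T' := ObjectProperty.homMk f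
    refine (Groth.Agent.S10557.result q' f' hq).2.1 ?_
    have e : (q' ≫ f').hom = (yon W).map g := hf
    rw [e]
    refine K597.locP_of_repWith (fun A B C e f he hf => ?_) ((repWith_yon_map_iff _ _).2 ?_)
    · have : LocallyOfFiniteType f := hf
      exact inferInstanceAs (LocallyOfFiniteType (e ≫ f))
    · exact inferInstanceAs (LocallyOfFiniteType m)
  have hqf := K634.MonoTfae.lqf_of_unram f (K634.MonoTfae.unram_of_mono hF hT f hlft)
  obtain ⟨A, ⟨e⟩⟩ := K613.exists_iso_of_lqf hF f hqf (K634.MonoTfae.isSeparatedMor_of_mono f)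
  let p : U ⟶ A := (yon W).preimage (q ≫ e.inv)
  have hp : (yon W).map p ≫ e.hom = q := by simp [p]
  have hpi : p.left ≫ A.hom = m := Over.w p
  have hfl : RepWith @Flat ((yon W).map p) := by
    rw [← hp] at h2
    exact (MorphismProperty.cancel_right_of_respectsIso (RepWith @Flat) _ _).1 h2
  have hfp : RepWith @LocallyOfFinitePresentation ((yon W).map p) := by
    rw [← hp] at h3
    exact (MorphismProperty.cancel_right_of_respectsIso (RepWith @LocallyOfFinitePresentation) _ _).1 h3
  have hsj : RepWith @Surjective ((yon W).map p) := by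
    rw [← hp] at h4
    exact (MorphismProperty.cancel_right_of_respectsIso (RepWith @Surjective) _ _).1 h4
  refine ⟨A.left, p.left, A.hom, hpi, ⟨fun {Z'} a b hab => ?_⟩, ?_, (repWith_yon_map_iff _ _).1 hfl,
    (repWith_yon_map_iff _ _).1 hsj, (repWith_yon_map_iff _ _).1 hfp⟩
  · let Z'' : Over W := Over.mk (a ≫ A.hom)
    let a' : Z'' ⟶ A := Over.homMk a rfl
    let b' : Z'' ⟶ A := Over.homMk b hab.symm
    have h5 : (yon W).map a' ≫ e.hom ≫ f = (yon W).map b' ≫ e.hom ≫ f := by
      obtain ⟨c, hc⟩ := (yon W).map_surjective (e.hom ≫ f)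
      rw [← hc, ← Functor.map_comp, ← Functor.map_comp]
      congr 1
      ext1
      have : ∀ d : Z'' ⟶ T, d.left = Z''.hom := fun d => (Category.comp_id _).symm.trans (Over.w d)
      rw [this, this]
    have h6 : (yon W).map a' = (yon W).map b' := by
      rw [← cancel_mono (e.hom ≫ f)]
      exact h5
    exact congrArg (fun φ => φ.left) ((yon W).map_injective h6)
  · have h5 : LocP @LocallyOfFiniteType (e.hom ≫ f) := K597.locP_precomp ((RepWith @Etale).of_isIso _) hlft
    obtain ⟨c, hc⟩ := (yon W).map_surjective (e.hom ≫ f)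
    rw [← hc] at h5
    have h6 : LocallyOfFiniteType c.left := locP_yon_map h5
    have h7 : c.left = A.hom := (Category.comp_id _).symm.trans (Over.w c)
    rw [← h7]
    exact h6

end K220.FlatFact
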