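import Groth.Agent.Pic13.K220.FlatFact
import Groth.Agent.Flat2B.MonoRep
import Groth.Agent.Ega2.QuasiAffine

/-!
# A morphism with affine flat self-fibre-product is quasi-affine

`isQuasiAffine`: `m : E ⟶ W` quasi-compact and locally of finite type, `W` locally Noetherian, `E ×_W E ⟶ E` flat and
affine: then `m` is quasi-affine.
-/

set_option autoImplicit false
universe u

open CategoryTheory CategoryTheory.Limits AlgebraicGeometry Opposite

namespace K220.QAff

theorem isQuasiAffine_of_isAffineHom {X Y : Scheme.{u}} (f : X ⟶ Y) [IsAffineHom f] : Mor2.IsQuasiAffine f := by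
  refine ⟨inferInstance, fun V hV => ?_⟩
  have : IsAffine (f ⁻¹ᵁ V : Scheme.{u}) := hV.preimage f
  infer_instance

/-- The second factor of a quasi-compact morphism is quasi-compact when the first one is surjective. -/
theorem quasiCompact_of_comp {X Y Z : Scheme.{u}} (f : X ⟶ Y) (g : Y ⟶ Z) [Surjective f] [QuasiCompact (f ≫ g)] :
    QuasiCompact g := by
  refine ⟨fun U hU hU' => ?_⟩
  have h1 : IsCompact ((f ≫ g) ⁻¹' U) := QuasiCompact.isCompact_preimage U hU hU'
  have h2 : g ⁻¹' U = f '' ((f ≫ g) ⁻¹' U) := by
    ext y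
    constructor
    · intro hy
      obtain ⟨x, rfl⟩ := f.surjective y
      exact ⟨x, by simpa using hy, rfl⟩
    · rintro ⟨x, hx, rfl⟩
      simpa using hx
  rw [h2]
  exact h1.image f.continuous

/-- **Lemma Q.** -/
theorem isQuasiAffine {E W : Scheme.{u}} [IsLocallyNoetherian W] (m : E ⟶ W) [LocallyOfFiniteType m]
    [QuasiCompact m] [Flat (pullback.fst m m)] [IsAffineHom (pullback.fst m m)] : Mor2.IsQuasiAffine m := by
  obtain ⟨Z, p, i, rfl, hi, hlft, hfl, hsj, hfp⟩ := FlatFact.exists_fact m
  have hqc : QuasiCompact i := quasiCompact_of_comp p i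
  have h1 : Mor2.IsQuasiAffine i := Groth.Agent.Flat2B.MonoRep.isQuasiAffine_of_mono i
  have h2 : IsAffineHom (pullback.fst p p) := by
    have sq : IsPullback (pullback.fst (p ≫ i) (p ≫ i)) (pullback.snd (p ≫ i) (p ≫ i)) p p := by
      refine ⟨⟨?_⟩, ⟨?_⟩⟩
      · rw [← cancel_mono i, Category.assoc, Category.assoc, pullback.condition]
      · refine PullbackCone.IsLimit.mk _ (fun s => pullback.lift s.fst s.snd (by
          rw [← Category.assoc, s.condition, Category.assoc])) ?_ ?_ ?_
        · intro s
          exact pullback.lift_fst _ _ _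
        · intro s
          exact pullback.lift_snd _ _ _
        · intro s m h h'
          apply pullback.hom_ext
          · rw [h, pullback.lift_fst]
          · rw [h', pullback.lift_snd]
    have h3 := sq.isoPullback_inv_fst
    rw [← h3]
    infer_instance
  have h3 : IsAffineHom p := by
    have := K595.DescInst.isAffineHom.{u}
    exact MorphismProperty.of_pullback_fst_of_descendsAlong (P := @IsAffineHom) (Q := K595.RepDesc.Fppf)
      (f := p) (g := p) ⟨⟨hsj, hfl⟩, hfp⟩ h2
  exact Groth.Agent.Ega2.QuasiAffine.qaff_comp p i (isQuasiAffine_of_isAffineHom p) h1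

end K220.QAff
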